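import Cfsg.Agent.H613.KKL.Defs

/-!
# S4546: tools for the configuration `Cfg0 D x` (helper825)

* `cfg0_map` : transport; `noCfg_congr` : transport of `NoCfg`;
* `cfg0_le` : the normal 2-subgroups of `C(t)`, `t ∈ D`, are in `D`; `cfg0_comm` : `D` is abelian;
* `cfg0_pure` : the involutions of `D` are conjugate; `exists_conj` : they can be replaced by any conjugate;
* `not_mem_of_card`, `not_mem_of_sq` : an involution with a normal 2-subgroup of order at least 16, or not elementary
  abelian, in its centraliser is not conjugate into `D`.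
-/

set_option autoImplicit false

open Subgroup Cfsg Cfsg.Agent.H613.KKL

namespace Cfsg.Agent.H825.KKL

universe u v

section tools

variable {S : Type u} [Group S] {T : Type v} [Group T]

theorem seven_map {D : Subgroup S} {y : S} (h : Seven D y) (e : S ≃* T) : Seven (D.map e.toMonoidHom) (e y) := by
  obtain ⟨h1, ⟨m, hm⟩, h3⟩ := h
  have hmem : ∀ t : T, t ∈ D.map e.toMonoidHom ↔ e.symm t ∈ D := by
    intro t
    rw [mem_map]
    constructor
    · rintro ⟨s, hs, rfl⟩
      show e.symm (e s) ∈ D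
      rwa [e.symm_apply_apply]
    · intro ht
      exact ⟨e.symm t, ht, e.apply_symm_apply t⟩
  refine ⟨fun d => ?_, ⟨m, by rw [MulEquiv.orderOf_eq, hm]⟩, ?_⟩
  · rw [hmem, hmem, map_mul, map_mul, map_inv, e.symm_apply_apply]
    exact h1 _
  · rintro _ ⟨a, ha, rfl⟩ ha1 _ ⟨b, hb, rfl⟩ hb1
    have ha1' : a ≠ 1 := by
      rintro rfl
      exact ha1 (map_one _)
    have hb1' : b ≠ 1 := by
      rintro rfl
      exact hb1 (map_one _)
    obtain ⟨k, hk⟩ := h3 a ha ha1' b hb hb1'
    refine ⟨k, ?_⟩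
    show e y ^ k * e a * (e y ^ k)⁻¹ = e b
    rw [← map_pow, ← map_inv, ← map_mul, ← map_mul, hk]

/-- transport of the configuration -/
theorem cfg0_map {D : Subgroup S} {x : S} (h : Cfg0 D x) (e : S ≃* T) : Cfg0 (D.map e.toMonoidHom) (e x) := by
  have hmem : ∀ t : T, t ∈ D.map e.toMonoidHom ↔ e.symm t ∈ D := by
    intro t
    rw [mem_map]
    constructor
    · rintro ⟨s, hs, rfl⟩
      show e.symm (e s) ∈ D
      rwa [e.symm_apply_apply]
    · intro ht
      exact ⟨e.symm t, ht, e.apply_symm_apply t⟩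
  have hmem2 : ∀ (Q : Subgroup T) (s : S), s ∈ Q.map e.symm.toMonoidHom ↔ e s ∈ Q := by
    intro Q s
    rw [mem_map]
    constructor
    · rintro ⟨t, ht, rfl⟩
      show e (e.symm t) ∈ Q
      rwa [e.apply_symm_apply]
    · intro hs
      exact ⟨e s, hs, e.symm_apply_apply s⟩
  refine ⟨⟨?_, ?_⟩, ?_, ?_, ?_, ?_, ?_⟩
  · rw [← h.e8.card]
    exact (Nat.card_congr (D.equivMapOfInjective e.toMonoidHom e.injective).toEquiv).symm
  · rintro _ ⟨d, hd, rfl⟩
    show e d * e d = 1
    rw [← map_mul, h.e8.inv d hd, map_one]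
  · rw [MulEquiv.orderOf_eq]
    exact h.odd
  · rintro _ ⟨d, hd, rfl⟩
    show e d * e x = e x * e d
    rw [← map_mul, h.comm d hd, map_mul]
  · intro Q hQ hQx
    obtain ⟨c, hc1, hc2⟩ := h.syl (Q.map e.symm.toMonoidHom) (hQ.map _) (by
      intro q hq
      have h1 := hQx _ ((hmem2 Q q).1 hq)
      apply e.injective
      rw [map_mul, map_mul, h1])
    refine ⟨e c, by rw [← map_mul, hc1, map_mul], fun q hq => ?_⟩
    rw [hmem]
    have h1 := hc2 (e.symm q) ((hmem2 Q _).2 (by rwa [e.apply_symm_apply]))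
    simpa only [map_mul, map_inv, e.symm_apply_apply] using h1
  · obtain ⟨y, hy⟩ := h.seven
    exact ⟨e y, seven_map hy e⟩
  · intro R hR N hN hNR hNn
    have h1 := h.rad (R.map e.symm.toMonoidHom) (by
      intro r hr
      have h2 := hR ((hmem2 R r).1 hr)
      rw [hmem, e.symm_apply_apply] at h2
      exact h2) (N.map e.symm.toMonoidHom) (hN.map _) (by
      intro n hn
      rw [mem_centralizer_iff]
      intro r hr
      have h2 := mem_centralizer_iff.1 (hNR ((hmem2 N n).1 hn)) (e r) ((hmem2 R r).1 hr)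
      apply e.injective
      rw [map_mul, map_mul, h2]) (by
      intro c hc n hn
      rw [hmem2] at hn ⊢
      rw [map_mul, map_mul, map_inv]
      refine hNn (e c) ?_ (e n) hn
      rw [mem_centralizer_iff]
      intro r hr
      have h2 := mem_centralizer_iff.1 hc (e.symm r) ((hmem2 R _).2 (by rwa [e.apply_symm_apply]))
      have h3 := congrArg e h2
      rwa [map_mul, map_mul, e.apply_symm_apply] at h3)
    intro n hn
    rw [hmem]
    exact h1 ((hmem2 N _).2 (by rwa [e.apply_symm_apply]))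

/-- the normal 2-subgroups of the centralizer of `t ∈ D` are in `D` -/
theorem cfg0_le {D : Subgroup S} {x : S} (h : Cfg0 D x) {t : S} (ht : t ∈ D) {N : Subgroup S} (hN2 : IsPGroup 2 N)
    (hNz : N ≤ centralizer {t}) (hNn : ∀ c ∈ centralizer ({t} : Set S), ∀ n ∈ N, c * n * c⁻¹ ∈ N) : N ≤ D := by
  have h1 : centralizer ((zpowers t : Subgroup S) : Set S) = centralizer ({t} : Set S) := by
    rw [zpowers_eq_closure, centralizer_closure]
  exact h.rad (zpowers t) ((zpowers_le).2 ht) N hN2 (by rw [h1]; exact hNz) (by rw [h1]; exact hNn)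

/-- the involutions of `D` are conjugate -/
theorem cfg0_pure {D : Subgroup S} {x : S} (h : Cfg0 D x) {a b : S} (ha : a ∈ D) (ha1 : a ≠ 1) (hb : b ∈ D)
    (hb1 : b ≠ 1) : IsConj a b := by
  obtain ⟨y, hy⟩ := h.seven
  obtain ⟨k, hk⟩ := hy.trans a ha ha1 b hb hb1
  exact isConj_iff.2 ⟨_, hk⟩

/-- conjugation: an involution of `D` can be replaced by any conjugate -/
theorem exists_conj {D : Subgroup S} {x : S} (h : Cfg0 D x) {a b : S} (ha : a ∈ D) (hab : IsConj a b) :
    ∃ (D' : Subgroup S) (x' : S), Cfg0 D' x' ∧ b ∈ D' := by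
  obtain ⟨g, hg⟩ := isConj_iff.1 hab
  refine ⟨_, _, cfg0_map h (MulAut.conj g), a, ha, ?_⟩
  show g * a * g⁻¹ = b
  exact hg

theorem cfg0_comm {D : Subgroup S} {x : S} (h : Cfg0 D x) : ∀ a ∈ D, ∀ b ∈ D, a * b = b * a := by
  intro a ha b hb
  have h1 := h.e8.inv _ (D.mul_mem ha hb)
  have h2 := h.e8.inv _ ha
  have h3 := h.e8.inv _ hb
  calc a * b = a * (a * b * (a * b)) * b := by rw [h1, mul_one]
    _ = a * a * (b * a) * (b * b) := by group
    _ = b * a := by rw [h2, h3, one_mul, mul_one]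

/-- an involution whose centraliser has a normal 2-subgroup not of order at most 8 and exponent 2 is not conjugate
into `D` -/
theorem not_mem {z : S} {N : Subgroup S} (hN2 : IsPGroup 2 N) (hNz : N ≤ centralizer {z})
    (hNn : ∀ c ∈ centralizer ({z} : Set S), ∀ n ∈ N, c * n * c⁻¹ ∈ N) (hbad : (∃ n ∈ N, n * n ≠ 1) ∨ 8 < Nat.card N)
    {D : Subgroup S} {x : S} (h : Cfg0 D x) {t : S} (ht : t ∈ D) : ¬ IsConj z t := by
  intro hzt
  obtain ⟨D', x', h', hz'⟩ := exists_conj h ht hzt.symm
  have h1 := cfg0_le h' hz' hN2 hNz hNn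
  rcases hbad with ⟨n, hn, hn1⟩ | hcard
  · exact hn1 (h'.e8.inv n (h1 hn))
  · have hfin : Finite D' := Nat.finite_of_card_ne_zero (by rw [h'.e8.card]; norm_num)
    have h2 := Subgroup.card_le_of_le h1
    rw [h'.e8.card] at h2
    omega

theorem exists_ne_one {D : Subgroup S} {x : S} (h : Cfg0 D x) : ∃ a ∈ D, a ≠ 1 := by
  by_contra hcon
  push Not at hcon
  have h1 : D = ⊥ := (eq_bot_iff_forall D).2 hcon
  have h2 := h.e8.card
  rw [h1, card_bot] at h2
  omega

/-- transport of `NoCfg` -/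
theorem noCfg_congr (e : S ≃* T) (h : NoCfg T) : NoCfg S := fun _ _ hc => h _ _ (cfg0_map hc e)

end tools

end Cfsg.Agent.H825.KKL
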