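import Cfsg.Agent.H825.KKL.Tools
import Cfsg.Agent.KFacts.He.RecL
import Cfsg.Agent.KFacts.He.Classes

/-!
# S4546, the row of the Held group (helper825)

`Cfg0 D x` in the Held group: all involutions of `D` are conjugate. Class 2B: `O_2(C(z))` has order 128. Class 2A: `D`
contains the four-group `V = O_2(C(a))`, `D ≤ C(V) = L = 2^2.L_3(4)`, and every involution of `L ∖ V` is congruent modulo
`V` to an involution of class 2B.
-/

set_option autoImplicit false
set_option maxRecDepth 100000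

open Subgroup Cfsg Cfsg.Agent.H613.KKL

namespace Cfsg.Agent.H825.KKL

universe u v

section model

open Cfsg.Agent.KFacts.He.Bound Cfsg.Agent.KFacts.He.Hyp Cfsg.Agent.KFacts.He.TwoACent
open Cfsg.Agent.KFacts.He.Lv (gn)
open Cfsg.Agent.SporadicRecognition.HeldModel (QQ CC)
open Cfsg.Spor.He (Gen)

/-- the involutions of class 2B are not in `D` -/
theorem not_z {D : Subgroup Spor.He} {x : Spor.He} (h : Cfg0 D x) (hz : z ∈ D) : False := by
  have hn : (QQ.subgroupOf CC).Normal := by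
    rw [← SporadicRecognition.HeldModel.toL3_ker]
    infer_instance
  have hcard : Nat.card ((QQ.subgroupOf CC).map iota) = 128 := by
    rw [← SporadicRecognition.HeldModel.card_QQ,
      ← Nat.card_congr ((QQ.subgroupOf CC).equivMapOfInjective iota hyp.inj).toEquiv]
    exact Nat.card_congr (subgroupOfEquivOfLe SporadicRecognition.HeldModel.QQ_le_CC).toEquiv
  have h1 : (QQ.subgroupOf CC).map iota ≤ D := by
    refine cfg0_le h hz ?_ ?_ ?_
    · exact IsPGroup.of_card (n := 7) (by rw [hcard]; norm_num)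
    · rw [← hyp.range]
      rintro _ ⟨q, -, rfl⟩
      exact ⟨q, rfl⟩
    · intro c hc n hn'
      rw [← hyp.range] at hc
      obtain ⟨c, rfl⟩ := hc
      obtain ⟨n, hn1, rfl⟩ := hn'
      exact ⟨c * n * c⁻¹, hn.conj_mem n hn1 c, by rw [map_mul, map_mul, map_inv]⟩
  have h2 := Subgroup.card_dvd_of_le h1
  rw [hcard, h.e8.card] at h2
  omega

/-- no element of `D` is conjugate to `z` -/
theorem not_conj_z {D : Subgroup Spor.He} {x : Spor.He} (h : Cfg0 D x) {t : Spor.He} (ht : t ∈ D)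
    (hz : IsConj z t) : False := by
  obtain ⟨D', x', h', hz'⟩ := exists_conj h ht hz.symm
  exact not_z h' hz'

theorem isConj_z_d : IsConj z (gn .d) := by
  obtain ⟨g, hg⟩ := KFacts.He.Classes.z_d
  exact isConj_iff.2 ⟨g, hg⟩

theorem model : NoCfg Spor.He := by
  intro D x h
  -- `a ∈ D`
  obtain ⟨t, htD, ht1⟩ := exists_ne_one h
  rcases KFacts.He.Classes.two_classes_a (h.e8.inv t htD) ht1 with ⟨g, hg⟩ | ⟨g, hg⟩
  · exact not_conj_z h htD (isConj_iff.2 ⟨g, hg⟩)
  obtain ⟨D, x, h, haD⟩ := exists_conj h htD (isConj_iff.2 ⟨g, hg⟩ : IsConj (gn .a) t).symm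
  -- `V ≤ D`
  have hV : V ≤ D := by
    refine cfg0_le h haD ?_ ?_ ?_
    · intro w
      refine ⟨1, Subtype.ext ?_⟩
      show (w : Spor.He) ^ 2 ^ 1 = 1
      rw [pow_one, pow_two]
      exact (KFacts.He.TwoA.two_a.2.2.2.2.1 w fun m hm => (mem_V.1 w.2 m hm).symm).2
    · exact V_le_L.trans KFacts.He.TwoA.two_a.1
    · intro c hc w hw
      rw [mem_V]
      intro l hl
      have hc' : c⁻¹ * gn .a = gn .a * c⁻¹ := (inv_mem hc : c⁻¹ ∈ centralizer ({gn .a} : Set Spor.He)) |>
        mem_centralizer_singleton_iff.1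
      have h1 := KFacts.He.TwoACent.norm hc' hl
      rw [inv_inv] at h1
      have h2 := mem_V.1 hw _ h1
      calc l * (c * w * c⁻¹) = c * (c⁻¹ * l * c * w) * c⁻¹ := by group
        _ = c * (w * (c⁻¹ * l * c)) * c⁻¹ := by rw [h2]
        _ = c * w * c⁻¹ * l := by group
  -- `D ≤ L`
  have hL : D ≤ L := by
    intro d hd
    rw [KFacts.He.RecL.mem_L_iff']
    intro w hw
    exact cfg0_comm h d hd w (hV hw)
  -- an element of `D` outside of `V`
  have hcV : Nat.card V = 4 := by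
    rw [← KFacts.He.RecL.card_center_L]
    have h1 : V = (center ↥L).map L.subtype := by
      ext w
      constructor
      · intro hw
        exact ⟨⟨w, V_le_L hw⟩, KFacts.He.RecL.mem_center_L.2 hw, rfl⟩
      · rintro ⟨u, hu, rfl⟩
        exact KFacts.He.RecL.mem_center_L.1 hu
    rw [h1]
    exact (Nat.card_congr ((center ↥L).equivMapOfInjective L.subtype L.subtype_injective).toEquiv).symm
  obtain ⟨d, hd, hdV⟩ : ∃ d ∈ D, d ∉ V := by
    by_contra hcon
    push Not at hcon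
    have h1 := Subgroup.card_dvd_of_le (show D ≤ V from hcon)
    rw [hcV, h.e8.card] at h1
    omega
  have hN : Cfsg.Agent.UGT.Cov.Klein.NInv (⟨d, hL hd⟩ : ↥L) :=
    ⟨Subtype.ext (h.e8.inv d hd), fun hc => hdV (KFacts.He.RecL.mem_center_L.1 hc)⟩
  obtain ⟨w, hw, g, hg⟩ := KFacts.He.RecL.conj_c hN
  have hg' : (g : Spor.He) * d * (g : Spor.He)⁻¹ = gn .c * w := congrArg (Subtype.val) hg
  have hwa : w.1 * gn .a ∈ V := V.mul_mem hw a_mem_V
  have hww : w.1 * w.1 = 1 := h.e8.inv _ (hV hw)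
  have h1 : (g : Spor.He) * (w.1 * gn .a) = w.1 * gn .a * g := mem_V.1 hwa _ g.2
  refine not_conj_z h (D.mul_mem hd (hV hwa)) ((isConj_z_d.trans KFacts.He.RecL.ca_d.symm).trans
    (isConj_iff.2 ⟨(g : Spor.He)⁻¹, ?_⟩))
  have h2 : (g : Spor.He) * (d * (w.1 * gn .a)) * (g : Spor.He)⁻¹ = gn .c * gn .a := by
    calc (g : Spor.He) * (d * (w.1 * gn .a)) * (g : Spor.He)⁻¹
        = g * d * (g : Spor.He)⁻¹ * (g * (w.1 * gn .a)) * (g : Spor.He)⁻¹ := by group
      _ = gn .c * w.1 * (w.1 * gn .a * g) * (g : Spor.He)⁻¹ := by rw [hg', h1]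
      _ = gn .c * (w.1 * w.1) * gn .a := by group
      _ = gn .c * gn .a := by rw [hww, mul_one]
  rw [← h2]
  group

end model

/-- **S4546, the row He** -/
theorem E_He {S : Type u} [Group S] (h : Spor.IsoHe S) : NoCfg S := by
  obtain ⟨e⟩ := h
  exact noCfg_congr e model

end Cfsg.Agent.H825.KKL
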